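import Cfsg.Agent.Lib.Bender.Gen.Structure
import Cfsg.Agent.Lib.Classical.PSLTwoSimple
import Cfsg.Agent.Lib.Classical.Unitary.MatrixStructure
import Cfsg.Agent.Lib.Lie.Suzuki.Borel
import Cfsg.Agent.Lib.Lie.Suzuki.Group
import Cfsg.Agent.Lib.Fusion.MaximalCyclic
import Cfsg.Agent.Lib.TwoGroups.ThreeInvolutions
import Cfsg.Agent.Lib.ZStar.QuatSylow
import Cfsg.Agent.Lib.ZStar.Apps

/-!
Owner: helper18. Facts on the rank one families and on quaternion groups for the assembly of S3310.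

* `isSimple_of_family`, `names_of_family`: the families are simple, and have the names used in S3310.
* `solvable_mulAut_quaternion`: the automorphism group of a quaternion group is solvable.
* `exists_quaternion_pair`: two elements of order four with product of order four.
-/

set_option autoImplicit false

namespace CfsgLib.RankOneInter.Final

open Subgroup

universe u

theorem exists_pow_two {F : Type} [Field F] [Fintype F] [CharP F 2] : ∃ n : ℕ, Fintype.card F = 2 ^ n := by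
  obtain ⟨n, -, hn⟩ := FiniteField.card F 2
  exact ⟨n, hn⟩

theorem isSimple_of_family {L : Type u} [Group L] (h : CfsgLib.Bender.RankOneFamily L) : IsSimpleGroup L := by
  rcases h with ⟨F, iF, iFt, hF2, h4, ⟨e⟩⟩ | ⟨F, iF, iFt, q, hq2, hq4, hF, ⟨e⟩⟩ | ⟨F, iF, iFt, m, hm, hF, ⟨e⟩⟩
  · obtain ⟨ep⟩ := CfsgLib.Recog.AffineTwo.psl_equiv_sl F
    haveI := CfsgLib.Classical.isSimpleGroup_PSL_two (F := F) h4
    exact (e.trans ep.symm).isSimpleGroup_congr.2 inferInstance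
  · haveI := CfsgLib.Classical.Herm.isSimpleGroup_PSU' hF 3 le_rfl (fun _ => by omega)
    exact e.isSimpleGroup_congr.2 inferInstance
  · haveI : CharP F 2 := by
      haveI : Fact (Nat.Prime 2) := ⟨Nat.prime_two⟩
      exact charP_of_card_eq_prime_pow (f := 2 * m + 1) hF
    haveI := CfsgLib.Lie.Suzuki.isSimple hF hm
    exact (e.trans (CfsgLib.Lie.Suzuki.equivLie hm hF).symm).isSimpleGroup_congr.2 inferInstance

/-- The three names of S3310. -/
theorem names_of_family {L : Type u} [Group L] (h : CfsgLib.Bender.RankOneFamily L) :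
    (∃ (n : ℕ) (F : Type) (_ : Field F) (_ : Fintype F), 2 ≤ n ∧ Fintype.card F = 2 ^ n ∧
        Nonempty (L ≃* Matrix.ProjectiveSpecialLinearGroup (Fin 2) F)) ∨
      (∃ (m : ℕ) (F : Type) (_ : Field F) (_ : Fintype F), 1 ≤ m ∧ Fintype.card F = 2 ^ (2 * m + 1) ∧
        Nonempty (L ≃* ↥(Cfsg.Lie.Sz F (2 ^ (m + 1))))) ∨
      (∃ (n : ℕ) (F : Type) (_ : Field F) (_ : Fintype F), 2 ≤ n ∧ Fintype.card F = 4 ^ n ∧
        Nonempty (L ≃* Cfsg.PSU 3 F (2 ^ n))) := by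
  rcases h with ⟨F, iF, iFt, hF2, h4, ⟨e⟩⟩ | ⟨F, iF, iFt, q, hq2, hq4, hF, ⟨e⟩⟩ | ⟨F, iF, iFt, m, hm, hF, ⟨e⟩⟩
  · obtain ⟨n, hn⟩ := exists_pow_two (F := F)
    obtain ⟨ep⟩ := CfsgLib.Recog.AffineTwo.psl_equiv_sl F
    refine Or.inl ⟨n, F, iF, iFt, ?_, hn, ⟨e.trans ep.symm⟩⟩
    by_contra hlt
    have h1 : 2 ^ n ≤ 2 ^ 1 := Nat.pow_le_pow_right two_pos (by omega)
    omega
  · obtain ⟨r, hr⟩ := CharP.exists F
    obtain ⟨k', hrp, hk⟩ := FiniteField.card F r
    have hqd : q ∣ r ^ (k' : ℕ) := ⟨q, by rw [← hk, hF, pow_two]⟩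
    obtain ⟨n, -, hqn⟩ := (Nat.dvd_prime_pow hrp).1 hqd
    have hr2 : r = 2 := by
      refine ((Nat.prime_dvd_prime_iff_eq Nat.prime_two hrp).1 (Nat.prime_two.dvd_of_dvd_pow (n := n) ?_)).symm
      exact hqn ▸ even_iff_two_dvd.1 hq2
    subst hr2 hqn
    refine Or.inr (Or.inr ⟨n, F, iF, iFt, ?_, ?_, ⟨e⟩⟩)
    · by_contra hlt
      have h1 : 2 ^ n ≤ 2 ^ 1 := Nat.pow_le_pow_right two_pos (by omega)
      omega
    · rw [hF, show (4 : ℕ) = 2 ^ 2 by norm_num, ← pow_mul, ← pow_mul, mul_comm]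
  · exact Or.inr (Or.inl ⟨m, F, iF, iFt, hm, hF, ⟨e⟩⟩)

theorem solvable_mulAut_quaternion (k : ℕ) : Group.IsSolvable (MulAut (QuaternionGroup (2 ^ (k + 1)))) := by
  haveI : Fact (Nat.Prime 2) := ⟨Nat.prime_two⟩
  rcases k with _ | k
  · refine CfsgLib.ThreeInvolutions.isSolvable_mulAut (C := QuaternionGroup 2)
      (IsPGroup.of_card (n := 3) (by rw [Nat.card_eq_fintype_card, QuaternionGroup.card]; rfl)) ?_ ?_ ?_
    · intro x; rw [mem_center_iff]; revert x; decide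
    · intro x; rw [mem_center_iff]; revert x; decide
    · rw [Nat.card_eq_fintype_card]; decide
  · haveI : Finite (MulAut (QuaternionGroup (2 ^ (k + 1 + 1)))) := Finite.of_injective _ MulEquiv.toEquiv_injective
    haveI : Group.IsNilpotent (MulAut (QuaternionGroup (2 ^ (k + 1 + 1)))) :=
      IsPGroup.isNilpotent (p := 2) fun β => CfsgLib.Fusion.quaternion_aut (by omega) β
    infer_instance

/-- Two elements of order four with product of order four. -/
theorem exists_quaternion_pair {P : Type u} [Group P] {k : ℕ} (e : P ≃* QuaternionGroup (2 ^ (k + 1))) :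
    ∃ z x y : P, z ≠ 1 ∧ z * z = 1 ∧ (∀ w, w * z = z * w) ∧ (∀ w, w * w = 1 → w = 1 ∨ w = z) ∧ (∀ w, (∀ v, v * w = w * v) → w = 1 ∨ w = z) ∧
      x * x = z ∧ y * y = z ∧ x * y * (x * y) = z := by
  obtain ⟨n, hn⟩ : ∃ n, n = 2 ^ (k + 1) := ⟨_, rfl⟩
  obtain ⟨h, hh⟩ : ∃ h, h = 2 ^ k := ⟨_, rfl⟩
  have hnh : n = h + h := by rw [hn, hh, pow_succ]; ring
  have hz2 : ((2 ^ (k + 1) : ℕ) : ZMod (2 * 2 ^ (k + 1))) + (2 ^ (k + 1) : ℕ) = 0 := by
    rw [← Nat.cast_add, ← two_mul, ZMod.natCast_self]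
  have hhh : ((2 ^ k : ℕ) : ZMod (2 * 2 ^ (k + 1))) + (2 ^ k : ℕ) = (2 ^ (k + 1) : ℕ) := by
    rw [← Nat.cast_add]; congr 1; rw [pow_succ]; ring
  haveI : NeZero (2 ^ (k + 1)) := ⟨by positivity⟩
  obtain ⟨Z, hZ⟩ : ∃ Z : QuaternionGroup (2 ^ (k + 1)), Z = .a ((2 ^ (k + 1) : ℕ) : ZMod (2 * 2 ^ (k + 1))) := ⟨_, rfl⟩
  have key : ∀ w : QuaternionGroup (2 ^ (k + 1)), w * w = 1 → w = 1 ∨ w = Z := by
    intro w hw
    by_cases h1 : w = 1
    · exact Or.inl h1
    · refine Or.inr (CfsgLib.ZStar.quaternion_unique_involution (orderOf_eq_prime (by rw [pow_two, hw]) h1) ?_)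
      refine orderOf_eq_prime (by rw [pow_two, hZ, QuaternionGroup.a_mul_a, hz2, QuaternionGroup.one_def]) ?_
      rw [hZ, QuaternionGroup.one_def, Ne, QuaternionGroup.a.injEq, ZMod.natCast_eq_zero_iff]
      intro hd
      have h1 := Nat.le_of_dvd (by positivity) hd
      have : 0 < 2 ^ (k + 1) := by positivity
      omega
  have hneg : -((2 ^ (k + 1) : ℕ) : ZMod (2 * 2 ^ (k + 1))) = (2 ^ (k + 1) : ℕ) := neg_eq_of_add_eq_zero_left hz2
  refine ⟨e.symm Z, e.symm (.a ((2 ^ k : ℕ) : ZMod (2 * 2 ^ (k + 1)))), e.symm (.xa 0), ?_, ?_, ?_, ?_, ?_, ?_, ?_, ?_⟩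
  · rw [Ne, e.symm.map_eq_one_iff, hZ, QuaternionGroup.one_def, QuaternionGroup.a.injEq, ZMod.natCast_eq_zero_iff]
    intro hd
    have h1 := Nat.le_of_dvd (by positivity) hd
    have : 0 < 2 ^ (k + 1) := by positivity
    omega
  · rw [← map_mul, hZ, QuaternionGroup.a_mul_a, hz2, ← QuaternionGroup.one_def, map_one]
  · intro w
    apply e.injective
    rw [map_mul, map_mul, e.apply_symm_apply, hZ]
    rcases e w with i | i
    · rw [QuaternionGroup.a_mul_a, QuaternionGroup.a_mul_a]; exact congrArg _ (add_comm _ _)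
    · rw [QuaternionGroup.xa_mul_a, QuaternionGroup.a_mul_xa, sub_eq_add_neg, hneg]
  · intro w hw
    rcases key (e w) (by rw [← map_mul, hw, map_one]) with h1 | h1
    · exact Or.inl (e.map_eq_one_iff.1 h1)
    · exact Or.inr (by rw [← h1, e.symm_apply_apply])
  · intro w hw
    have hw' : ∀ v, v * e w = e w * v := fun v => by
      rw [← e.apply_symm_apply v, ← map_mul, ← map_mul, hw]
    rcases CfsgLib.ZStar.quaternion_center (by rw [pow_succ']; exact Nat.le_mul_of_pos_right 2 (by positivity)) hw' with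
      h1 | h1
    · exact Or.inl (e.map_eq_one_iff.1 h1)
    · exact Or.inr (by rw [hZ, ← h1, e.symm_apply_apply])
  · rw [← map_mul, QuaternionGroup.a_mul_a, hhh, hZ]
  · rw [← map_mul, QuaternionGroup.xa_mul_xa, sub_zero, add_zero, hZ]
  · rw [← map_mul, ← map_mul, QuaternionGroup.a_mul_xa, QuaternionGroup.xa_mul_xa, add_sub_cancel_right, hZ]

end CfsgLib.RankOneInter.Final
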