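import Cfsg.Agent.Lib.Invol.RankOneInter.Basic
import Cfsg.Agent.Lib.Invol.RankOneInter.Defs
import Cfsg.Agent.Lib.Invol.RankOneInter.Final.Names
import Cfsg.Agent.Lib.Bender.Gen.Final
import Cfsg.Agent.Lib.Recog.USylow.Closed
import Cfsg.Agent.Lib.OddLocal.Final.OddOrder
import Cfsg.Agent.Lib.Core.UniqueOrderP
import Cfsg.Agent.Lib.HallGen.Basic

/-!
Owner: helper18. S3310 for a nonsolvable group without odd core whose Sylow 2-subgroups meet in the 2-core.

* `quaternion_of_unique`: a noncyclic 2-group with one involution is quaternion.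
* `ti_case`: the quotient by the 2-core has a subgroup of odd index in one of the three families, and there is an
  elementary abelian group of order eight.
-/

set_option autoImplicit false
set_option linter.style.haveILetI false
set_option linter.unusedSectionVars false

namespace CfsgLib.RankOneInter.Final

open Subgroup
open CfsgLib.Signalizer (involution_sq involution_inv orderOf_eq_two_of involution_ne_one orderOf_conj)
open CfsgLib.OddLocal.FTFinal (odd_order_solvable)
open CfsgLib.Bender (benderGen)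

universe u

variable {H : Type u} [Group H] [Finite H]

theorem quaternion_of_unique {P : Type u} [Group P] [Finite P] (hP : IsPGroup 2 P) (hnc : ¬ IsCyclic P)
    (hu : ∀ x y : P, orderOf x = 2 → orderOf y = 2 → x = y) :
    ∃ n : ℕ, Nonempty (P ≃* QuaternionGroup (2 ^ (n + 1))) := by
  haveI := Fact.mk Nat.prime_two
  have huniq : ∀ A B : Subgroup P, Nat.card A = 2 → Nat.card B = 2 → A = B := by
    intro A B hA hB
    obtain ⟨⟨a, ha⟩, ha2⟩ := exists_prime_orderOf_dvd_card' 2 (hA ▸ dvd_rfl : 2 ∣ Nat.card A)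
    obtain ⟨⟨b, hb⟩, hb2⟩ := exists_prime_orderOf_dvd_card' 2 (hB ▸ dvd_rfl : 2 ∣ Nat.card B)
    rw [Subgroup.orderOf_mk] at ha2 hb2
    have eA : zpowers a = A := eq_of_le_of_card_ge (zpowers_le.2 ha) (by rw [Nat.card_zpowers, ha2, hA])
    have eB : zpowers b = B := eq_of_le_of_card_ge (zpowers_le.2 hb) (by rw [Nat.card_zpowers, hb2, hB])
    rw [← eA, ← eB, hu a b ha2 hb2]
  rcases CfsgLib.Core.UniqueOrderP.isCyclic_or_quaternion_of_unique hP huniq with h | ⟨-, n, ⟨e⟩⟩
  · exact absurd h hnc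
  · rcases n with _ | n
    · exact absurd (e.isCyclic.2 QuaternionGroup.quaternionGroup_one_isCyclic) hnc
    · exact ⟨n, ⟨e⟩⟩

/-- A 2-element normalising a Sylow 2-subgroup lies in it. -/
theorem mem_of_two_elt {S T : Sylow 2 H} {x : H} (hx : x ∈ (S : Subgroup H)) (hn : x ∈ normalizer (T : Set H)) :
    x ∈ (T : Subgroup H) := by
  haveI := Fact.mk Nat.prime_two
  have hp : IsPGroup 2 (zpowers x) := S.isPGroup'.to_le (zpowers_le.2 hx)
  have h' : x ∈ zpowers x ⊓ normalizer (T : Set H) := ⟨mem_zpowers x, hn⟩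
  rw [hp.inf_normalizer_sylow T] at h'
  exact h'.2

theorem unique_involution_core (hG : SmallMeet H) {S T : Sylow 2 H} (hne : S ≠ T) {x y : H}
    (hx : x ∈ Cfsg.pCore 2 H) (hy : y ∈ Cfsg.pCore 2 H) (hx2 : orderOf x = 2) (hy2 : orderOf y = 2) : x = y := by
  haveI := Fact.mk Nat.prime_two
  have hP := CfsgLib.HallGen.isPGroup_pCore (G := H) 2
  have hcommEq : ∀ {a b : H}, a ∈ Cfsg.pCore 2 H → b ∈ Cfsg.pCore 2 H → orderOf a = 2 → orderOf b = 2 →
      a * b = b * a → a = b := fun {a b} ha hb ha2 hb2 hc => by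
    by_contra hab
    exact hne (hG S T a b ha2 hb2 hab hc (CfsgLib.HallGen.pCore_le_sylow S ha) (CfsgLib.HallGen.pCore_le_sylow S hb)
      (CfsgLib.HallGen.pCore_le_sylow T ha) (CfsgLib.HallGen.pCore_le_sylow T hb))
  haveI : Nontrivial (Cfsg.pCore 2 H) := ⟨⟨⟨x, hx⟩, 1, fun e => involution_ne_one hx2 (congrArg Subtype.val e)⟩⟩
  haveI := hP.center_nontrivial
  obtain ⟨k, hk⟩ := (hP.to_subgroup (center (Cfsg.pCore 2 H))).exists_card_eq
  have h2 : 2 ∣ Nat.card (center (Cfsg.pCore 2 H)) := by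
    rw [hk]
    rcases k with _ | k
    · exact absurd hk (by rw [pow_zero]; exact Finite.one_lt_card.ne')
    · exact dvd_pow_self 2 k.succ_ne_zero
  obtain ⟨⟨⟨w, hw⟩, hwc⟩, hw2⟩ := exists_prime_orderOf_dvd_card' 2 h2
  rw [Subgroup.orderOf_mk, Subgroup.orderOf_mk] at hw2
  have hc : ∀ a ∈ Cfsg.pCore 2 H, a * w = w * a := fun a ha => congrArg Subtype.val (mem_center_iff.1 hwc ⟨a, ha⟩)
  rw [hcommEq hx hw hx2 hw2 (hc x hx), hcommEq hy hw hy2 hw2 (hc y hy)]

/-- The conclusion of the case. -/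
def TIShape (H : Type u) [Group H] : Prop :=
  (∃ n : ℕ, Nonempty (↥(Cfsg.pCore 2 H) ≃* QuaternionGroup (2 ^ (n + 1)))) ∧
    (∃ (G₁ : Subgroup H) (_ : G₁.Normal), Odd G₁.index ∧ Cfsg.pCore 2 H ≤ G₁ ∧
      ∃ (L : Type u) (_ : Group L), CfsgLib.Bender.RankOneFamily L ∧
        ∃ f : ↥G₁ →* L, Function.Surjective f ∧ f.ker = (Cfsg.pCore 2 H).subgroupOf G₁) ∧
    ∃ (S : Sylow 2 H) (z a b : H), z ∈ (S : Subgroup H) ∧ a ∈ (S : Subgroup H) ∧ b ∈ (S : Subgroup H) ∧
      z * z = 1 ∧ a * a = 1 ∧ b * b = 1 ∧ z * a = a * z ∧ z * b = b * z ∧ a * b = b * a ∧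
      z ≠ 1 ∧ a ≠ 1 ∧ a ≠ z ∧ b ∉ closure ({z, a} : Set H)

theorem ti_case (hG : SmallMeet H) (hO : Cfsg.oddCore H = ⊥) (hns : ¬ Group.IsSolvable H) (hTI : TIMod H)
    {S₀ T₀ : Sylow 2 H} (hne : S₀ ≠ T₀) (hnc : ¬ IsCyclic ↥((S₀ : Subgroup H) ⊓ (T₀ : Subgroup H))) :
    TIShape H := by
  haveI := Fact.mk Nat.prime_two
  haveI := CfsgLib.HallGen.pCore_normal' (G := H) 2
  have hPp := CfsgLib.HallGen.isPGroup_pCore (G := H) 2
  obtain ⟨k, ⟨eP⟩⟩ := quaternion_of_unique hPp (fun h => hnc (by rw [hTI S₀ T₀ hne]; exact h))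
    (fun x y hx hy => Subtype.ext (unique_involution_core hG hne x.2 y.2
      (by rw [Subgroup.orderOf_coe]; exact hx) (by rw [Subgroup.orderOf_coe]; exact hy)))
  set P := Cfsg.pCore 2 H with hPdef
  obtain ⟨⟨z, hzP⟩, ⟨x, hxP⟩, ⟨y, hyP⟩, hz1, hzz, -, hzu, hzcen, hxx, hyy, hxy⟩ := exists_quaternion_pair eP
  have hz1' : z ≠ 1 := fun e => hz1 (Subtype.ext e)
  have hzz' : z * z = 1 := congrArg Subtype.val hzz
  have hxx' : x * x = z := congrArg Subtype.val hxx
  have hyy' : y * y = z := congrArg Subtype.val hyy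
  have hxy' : x * y * (x * y) = z := congrArg Subtype.val hxy
  -- the quotient by the 2-core
  set π := QuotientGroup.mk' P with hπ
  have hsurj : Function.Surjective π := QuotientGroup.mk'_surjective P
  have hker : ∀ {g : H}, π g = 1 ↔ g ∈ P := fun {g} => QuotientGroup.eq_one_iff g
  have hPS : ∀ S : Sylow 2 H, P ≤ (S : Subgroup H) := fun S => CfsgLib.HallGen.pCore_le_sylow S
  have hmemS : ∀ (S : Sylow 2 H) (g : H), π g ∈ (S : Subgroup H).map π → g ∈ (S : Subgroup H) := by
    rintro S g ⟨s, hs, he⟩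
    have h1 : s⁻¹ * g ∈ P := hker.1 (by rw [map_mul, map_inv, he, inv_mul_cancel])
    simpa using mul_mem hs (hPS S h1)
  have hti : ∀ A B : Sylow 2 (H ⧸ P), A ≠ B → (A : Subgroup (H ⧸ P)) ⊓ (B : Subgroup (H ⧸ P)) = ⊥ := by
    intro A B hAB
    obtain ⟨S, rfl⟩ := Sylow.mapSurjective_surjective hsurj 2 A
    obtain ⟨T, rfl⟩ := Sylow.mapSurjective_surjective hsurj 2 B
    refine (eq_bot_iff_forall _).2 fun g hg => ?_
    rw [Sylow.coe_mapSurjective, Sylow.coe_mapSurjective] at hg
    obtain ⟨w, hw, rfl⟩ := hg.1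
    have hwT := hmemS T w hg.2
    refine hker.2 ?_
    rw [hPdef, ← hTI S T fun e => hAB (by rw [e])]
    exact ⟨hw, hwT⟩
  set S' := S₀.mapSurjective hsurj with hS'
  set T' := T₀.mapSurjective hsurj with hT'
  have hST' : S' ≠ T' := by
    intro e
    refine hne (Sylow.ext (le_antisymm (fun s hs => hmemS T₀ s ?_) fun s hs => hmemS S₀ s ?_))
    · have h1 : π s ∈ (S' : Subgroup (H ⧸ P)) := by rw [hS', Sylow.coe_mapSurjective]; exact ⟨s, hs, rfl⟩
      rw [e, hT', Sylow.coe_mapSurjective] at h1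
      exact h1
    · have h1 : π s ∈ (T' : Subgroup (H ⧸ P)) := by rw [hT', Sylow.coe_mapSurjective]; exact ⟨s, hs, rfl⟩
      rw [← e, hS', Sylow.coe_mapSurjective] at h1
      exact h1
  have hnsK : ¬ Group.IsSolvable (H ⧸ P) := fun h => by
    haveI : Group.IsNilpotent P := hPp.isNilpotent
    haveI : Group.IsSolvable P := inferInstance
    exact hns ((Group.isSolvable_iff_subgroup_quotient P).2 ⟨inferInstance, h⟩)
  -- the normaliser of a Sylow subgroup is strongly embedded
  set M := normalizer ((S' : Subgroup (H ⧸ P)) : Set (H ⧸ P)) with hM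
  have hSE : Cfsg.IsStronglyEmbedded M := by
    refine ⟨fun e => hST' ?_, ?_, fun g hg => ?_⟩
    · haveI : (S' : Subgroup (H ⧸ P)).Normal := normalizer_eq_top_iff.1 e
      obtain ⟨g, hg⟩ := MulAction.exists_smul_eq (H ⧸ P) S' T'
      rw [← hg, Sylow.smul_eq_of_normal]
    · rw [← Nat.not_odd_iff_even]
      intro ho
      have hS1 : (S' : Subgroup (H ⧸ P)) = ⊥ := by
        obtain ⟨i, hi⟩ := S'.isPGroup'.exists_card_eq
        rcases i with _ | i
        · exact Subgroup.card_eq_one.1 (by rw [hi, pow_zero])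
        · have h2 : 2 ∣ Nat.card M := (by rw [hi]; exact dvd_pow_self 2 i.succ_ne_zero :
            2 ∣ Nat.card (S' : Subgroup (H ⧸ P))).trans (card_dvd_of_le le_normalizer)
          exact absurd h2 ho.not_two_dvd_nat
      refine hnsK (odd_order_solvable ?_)
      have h := S'.not_dvd_index
      rw [hS1, Subgroup.index_bot] at h
      exact Nat.odd_iff.2 (Nat.two_dvd_ne_zero.1 h)
    · rw [← Nat.not_even_iff_odd]
      intro hev
      obtain ⟨w, ⟨hw, hw'⟩, hw2⟩ := CfsgLib.Signalizer.exists_involution_of_even hev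
      obtain ⟨W, hW⟩ := (IsPGroup.of_card (p := 2) (n := 1) (G := zpowers w)
        (by rw [Nat.card_zpowers, hw2, pow_one])).exists_le_sylow
      have h1 : w ∈ (S' : Subgroup (H ⧸ P)) := mem_of_two_elt (hW (mem_zpowers w)) hw
      have h2 : w ∈ ((g • S' : Sylow 2 (H ⧸ P)) : Subgroup (H ⧸ P)) := by
        refine mem_of_two_elt (hW (mem_zpowers w)) ?_
        obtain ⟨v, hv, rfl⟩ := hw'
        rw [← Sylow.smul_eq_iff_mem_normalizer]
        show (g * v * g⁻¹) • g • S' = g • S'
        rw [mul_smul, mul_smul, inv_smul_smul, Sylow.smul_eq_iff_mem_normalizer.2 hv]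
      have h3 := hti S' (g • S') fun e => hg (Sylow.smul_eq_iff_mem_normalizer.1 e.symm)
      exact involution_ne_one hw2 (mem_bot.1 (h3 ▸ ⟨h1, h2⟩))
  have hnr : ¬ CfsgLib.Bender.RankOne (H ⧸ P) := by
    intro hr
    refine hnsK (CfsgLib.USylow.solvable_of_closed fun W => eq_top_iff.2 fun g _ => ?_)
    obtain ⟨c, rfl⟩ := MulAction.exists_smul_eq (H ⧸ P) S' W
    obtain ⟨t, htM, ht⟩ := CfsgLib.Signalizer.exists_involution_of_even hSE.2.1
    obtain ⟨W', hW'⟩ := (IsPGroup.of_card (p := 2) (n := 1) (G := zpowers t)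
      (by rw [Nat.card_zpowers, ht, pow_one])).exists_le_sylow
    have htS : t ∈ (S' : Subgroup (H ⧸ P)) := mem_of_two_elt (hW' (mem_zpowers t)) htM
    have hkey : ∀ g, g ∈ Cfsg.oddCore (H ⧸ P) ⊔ M := by
      intro g
      have h := CfsgLib.ZStar.mem_oddCore_of_unique S' ht htS
        (fun x hx hx2 => hr.unique S'.isPGroup' hx htS hx2 ht) g
      rw [involution_inv ht, mul_assoc (t * g), mul_assoc t, ← mul_assoc g] at h
      obtain ⟨w, hw, he⟩ := CfsgLib.Bender.exists_conj_of_mul_mem (CfsgLib.ZStar.odd_card_oddCore _) ht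
        (show orderOf (g * t * g⁻¹) = 2 by rw [orderOf_conj]; exact ht) h
      have h1 : (w⁻¹ * g) * t = t * (w⁻¹ * g) := by
        have : g * t = w * t * w⁻¹ * g := by rw [he]; group
        rw [mul_assoc, this]; group
      have := mul_mem (mem_sup_left (T := M) hw)
        (mem_sup_right (S := Cfsg.oddCore (H ⧸ P)) (CfsgLib.Bender.mem_of_commute_involution hSE ht htM h1))
      rwa [mul_inv_cancel_left] at this
    have hc : ∀ v ∈ Cfsg.oddCore (H ⧸ P) ⊔ M,
        c * v * c⁻¹ ∈ Cfsg.oddCore (H ⧸ P) ⊔ normalizer (((c • S' : Sylow 2 (H ⧸ P)) : Subgroup (H ⧸ P)) : Set (H ⧸ P)) := by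
      intro v hv
      rw [← SetLike.mem_coe, Subgroup.normal_mul] at hv
      obtain ⟨o, ho, m, hm, rfl⟩ := hv
      rw [show c * (o * m) * c⁻¹ = (c * o * c⁻¹) * (c * m * c⁻¹) by group]
      refine mul_mem (mem_sup_left ((inferInstance : (Cfsg.oddCore (H ⧸ P)).Normal).conj_mem o ho c))
        (mem_sup_right ?_)
      refine Sylow.smul_eq_iff_mem_normalizer.1 ?_
      rw [mul_smul, mul_smul, inv_smul_smul, Sylow.smul_eq_iff_mem_normalizer.2 hm]
    have := hc _ (hkey (c⁻¹ * g * c))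
    simpa [mul_assoc] using this
  obtain ⟨s, hs, t, ht, hs2, ht2, hst, hcomm⟩ := CfsgLib.Bender.four_of_not_rankOne hSE hnr
  have hmemS' : ∀ {w : H ⧸ P}, w ∈ M → orderOf w = 2 → w ∈ (S' : Subgroup (H ⧸ P)) := fun {w} hw hw2 => by
    obtain ⟨W, hW⟩ := (IsPGroup.of_card (p := 2) (n := 1) (G := zpowers w)
      (by rw [Nat.card_zpowers, hw2, pow_one])).exists_le_sylow
    exact mem_of_two_elt (hW (mem_zpowers w)) hw
  have hsS := hmemS' hs hs2
  have htS := hmemS' ht ht2
  -- the family quotient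
  set O := Cfsg.oddCore (H ⧸ P) with hOdef
  have hOodd : Odd (Nat.card O) := CfsgLib.ZStar.odd_card_oddCore _
  set ρ := QuotientGroup.mk' O with hρ
  set J2 := Cfsg.pElementClosure 2 (⊤ : Subgroup ((H ⧸ P) ⧸ O)) with hJ2
  have hfam : CfsgLib.Bender.RankOneFamily ↥J2 := CfsgLib.Bender.closure_family_quot benderGen hSE
    ⟨s, hs, t, ht, hs2, ht2, hst, hcomm⟩ O (le_antisymm
      (CfsgLib.Bender.oddCore_le_normalCore hSE ⟨s, hs, t, ht, hs2, ht2, hst, hcomm⟩)
      (CfsgLib.Bender.normalCore_le_oddCore hSE))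
  haveI : IsSimpleGroup ↥J2 := isSimple_of_family hfam
  haveI hJ2n : J2.Normal := by
    refine ⟨fun n hn g => ?_⟩
    have h : J2.map (MulAut.conj g).toMonoidHom ≤ J2 := by
      rw [hJ2, Cfsg.pElementClosure, MonoidHom.map_closure, closure_le]
      rintro _ ⟨w, ⟨-, i, hi⟩, rfl⟩
      exact subset_closure ⟨mem_top _, i, (orderOf_conj g w).trans hi⟩
    exact h ⟨n, hn, rfl⟩
  have hJ2odd : Odd J2.index := by
    obtain ⟨W⟩ := (inferInstance : Nonempty (Sylow 2 ((H ⧸ P) ⧸ O)))
    have hle : (W : Subgroup ((H ⧸ P) ⧸ O)) ≤ J2 := fun w hw => by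
      obtain ⟨i, hi⟩ := IsPGroup.iff_orderOf.1 W.isPGroup' ⟨w, hw⟩
      exact subset_closure ⟨mem_top _, i, by rw [← hi, Subgroup.orderOf_mk]⟩
    rw [← Nat.not_even_iff_odd, even_iff_two_dvd]
    exact fun h => W.not_dvd_index (h.trans (index_dvd_of_le hle))
  -- the centraliser of the 2-core
  set C := centralizer (P : Set H) with hC
  haveI hCn : C.Normal := Subgroup.normal_centralizer
  set C' := C.map π with hC'
  haveI : C'.Normal := hCn.map π hsurj
  have hsolC : Group.IsSolvable (H ⧸ C) := by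
    let φ : H →* MulAut P := MulAut.conjNormal
    have hk : φ.ker = C := by
      ext g
      rw [MonoidHom.mem_ker, hC, mem_centralizer_iff]
      constructor
      · intro h w hw
        have := congrArg Subtype.val (DFunLike.congr_fun h ⟨w, hw⟩)
        simp only [φ, MulAut.conjNormal_apply, MulAut.one_apply] at this
        rw [← mul_inv_eq_iff_eq_mul.1 this]
      · intro h
        refine MulEquiv.ext fun w => Subtype.ext ?_
        simp only [φ, MulAut.conjNormal_apply, MulAut.one_apply]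
        rw [← h _ w.2, mul_inv_cancel_right]
    haveI := solvable_mulAut_quaternion k
    haveI : Group.IsSolvable (MulAut P) :=
      solvable_of_surjective (f := (MulAut.congr eP.symm).toMonoidHom) (MulAut.congr eP.symm).surjective
    have h1 : Group.IsSolvable (H ⧸ φ.ker) :=
      solvable_of_solvable_injective (f := QuotientGroup.kerLift φ) (QuotientGroup.kerLift_injective φ)
    exact solvable_of_surjective (f := (QuotientGroup.quotientMulEquivOfEq hk).toMonoidHom)
      (QuotientGroup.quotientMulEquivOfEq hk).surjective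
  have hinvol : ∀ {u : H ⧸ P}, orderOf u = 2 → u ∈ C' := fun {u} hu => by
    have hev : Even (Nat.card C') := by
      rw [← Nat.not_odd_iff_even]
      intro ho
      refine hnsK ((Group.isSolvable_iff_subgroup_quotient C').2 ⟨odd_order_solvable ho, ?_⟩)
      haveI := hsolC
      exact solvable_of_surjective (f := QuotientGroup.map C C' π (le_comap_map _ _)) fun q => by
        obtain ⟨q, rfl⟩ := QuotientGroup.mk'_surjective C' q
        obtain ⟨g, rfl⟩ := hsurj q
        exact ⟨QuotientGroup.mk g, rfl⟩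
    obtain ⟨r, hr, hr2⟩ := CfsgLib.Signalizer.exists_involution_of_even hev
    obtain ⟨g, hg⟩ := isConj_iff.1 (CfsgLib.TwoGroups.SE.isConj_involutions hSE hr2 hu)
    exact hg ▸ (inferInstance : C'.Normal).conj_mem r hr g
  -- the centraliser meets the odd core trivially
  have hCO : C' ⊓ O = ⊥ := by
    set Y := C ⊓ O.comap π with hY
    haveI : Y.Normal := Subgroup.normal_inf_normal _ _
    have hYO : Cfsg.oddCore Y = ⊥ := by
      haveI : (Cfsg.oddCore Y).Characteristic := CfsgLib.Core.characteristic_pPrimeCore 2 Y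
      have h1 : (Cfsg.oddCore Y).map Y.subtype ≤ Cfsg.oddCore H := CfsgLib.ZStar.le_oddCore inferInstance
        ((CfsgLib.ZStar.odd_card_oddCore Y).of_dvd_nat (Subgroup.card_map_dvd _ _))
      rw [hO, le_bot_iff, map_eq_bot_iff_of_injective _ Y.subtype_injective] at h1
      exact h1
    have hSylY : ∀ R : Sylow 2 Y, ∀ r : Y, r ∈ (R : Subgroup Y) → (r : H) ∈ P := by
      intro R r hr
      obtain ⟨i, hi⟩ := IsPGroup.iff_orderOf.1 R.isPGroup' ⟨r, hr⟩
      rw [Subgroup.orderOf_mk, ← Subgroup.orderOf_coe] at hi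
      refine hker.1 (orderOf_eq_one_iff.1 (Nat.eq_one_of_dvd_coprimes (Nat.Coprime.pow_left i ?_)
        (hi ▸ orderOf_map_dvd π (r : H)) (Subgroup.orderOf_dvd_natCard O r.2.2)))
      exact Nat.coprime_two_left.2 hOodd
    obtain ⟨R⟩ := (inferInstance : Nonempty (Sylow 2 Y))
    have hRC : normalizer ((R : Subgroup Y) : Set Y) ≤ centralizer ((R : Subgroup Y) : Set Y) := fun v _ =>
      mem_centralizer_iff.2 fun r hr => Subtype.ext
        (mem_centralizer_iff.1 (v.2.1) (r : H) (hSylY R r hr))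
    have hcompl := MonoidHom.ker_transferSylow_isComplement' R hRC
    have hodd : Odd (Nat.card (MonoidHom.transferSylow R hRC).ker) := by
      have h := R.not_dvd_index
      rw [hcompl.index_eq_card] at h
      exact Nat.odd_iff.2 (Nat.two_dvd_ne_zero.1 h)
    have hker1 : (MonoidHom.transferSylow R hRC).ker = ⊥ :=
      le_bot_iff.1 (hYO ▸ CfsgLib.ZStar.le_oddCore inferInstance hodd)
    rw [hker1] at hcompl
    have hR : (R : Subgroup Y) = ⊤ := by simpa using hcompl.sup_eq_top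
    refine (eq_bot_iff_forall _).2 fun w hw => ?_
    obtain ⟨c, hc, rfl⟩ := hw.1
    exact hker.2 (hSylY R ⟨c, hc, hw.2⟩ (hR ▸ mem_top _))
  set J := C' ⊓ J2.comap ρ with hJ
  haveI : J.Normal := Subgroup.normal_inf_normal _ _
  let f₀ : ↥J →* ↥J2 := (ρ.comp J.subtype).codRestrict J2 fun w => w.2.2
  have hf₀inj : Function.Injective f₀ := by
    rw [injective_iff_map_eq_one]
    intro w hw
    have h1 : (w : H ⧸ P) ∈ C' ⊓ O :=
      ⟨w.2.1, (QuotientGroup.eq_one_iff _).1 (congrArg Subtype.val hw)⟩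
    rw [hCO] at h1
    exact Subtype.ext (mem_bot.1 h1)
  have hsJ2 : ∀ {u : H ⧸ P}, orderOf u = 2 → ρ u ∈ J2 := fun {u} hu => by
    have h1 : orderOf (ρ u) ∣ 2 ^ 1 := (orderOf_map_dvd ρ u).trans (dvd_of_eq (hu.trans (pow_one 2).symm))
    obtain ⟨i, -, hi⟩ := (Nat.dvd_prime_pow Nat.prime_two).1 h1
    exact subset_closure ⟨mem_top _, i, hi⟩
  have hf₀surj : Function.Surjective f₀ := by
    rw [← MonoidHom.range_eq_top]
    haveI : f₀.range.Normal := ⟨by
      rintro _ ⟨w, rfl⟩ g
      obtain ⟨v, hv⟩ := QuotientGroup.mk'_surjective O (g : (H ⧸ P) ⧸ O)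
      refine ⟨⟨v * w * v⁻¹, (inferInstance : J.Normal).conj_mem _ w.2 v⟩, Subtype.ext ?_⟩
      show ρ (v * w * v⁻¹) = g * ρ w * (g : (H ⧸ P) ⧸ O)⁻¹
      rw [map_mul, map_mul, map_inv, ← hv]⟩
    refine (IsSimpleGroup.eq_bot_or_eq_top_of_normal f₀.range inferInstance).resolve_left fun hb => ?_
    have h1 : f₀ ⟨s, hinvol hs2, hsJ2 hs2⟩ ∈ f₀.range := ⟨_, rfl⟩
    rw [hb, mem_bot, map_eq_one_iff _ hf₀inj] at h1
    exact involution_ne_one hs2 (congrArg Subtype.val h1)
  have hJodd : Odd J.index := by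
    have h1 : Nat.card J = Nat.card J2 := Nat.card_congr (MulEquiv.ofBijective f₀ ⟨hf₀inj, hf₀surj⟩).toEquiv
    have h2 : J.index = J2.index * Nat.card O := by
      have h3 := J.card_mul_index
      have h4 := J2.card_mul_index
      have h5 : Nat.card ((H ⧸ P) ⧸ O) * Nat.card O = Nat.card (H ⧸ P) := O.card_eq_card_quotient_mul_card_subgroup.symm
      rw [h1] at h3
      rw [← h4] at h5
      rw [← h5, mul_assoc] at h3
      exact Nat.eq_of_mul_eq_mul_left Nat.card_pos h3
    rw [h2]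
    exact hJ2odd.mul hOodd
  refine ⟨⟨k, ⟨eP⟩⟩, ⟨J.comap π, inferInstance, ?_, fun w hw => ?_, ↥J2, inferInstance, hfam, ?_⟩, ?_⟩
  · rw [index_comap_of_surjective J hsurj]; exact hJodd
  · rw [mem_comap, hker.2 hw]; exact one_mem _
  · refine ⟨f₀.comp ((π.comp (J.comap π).subtype).codRestrict J fun w => w.2), ?_, ?_⟩
    · intro v
      obtain ⟨⟨u, hu⟩, rfl⟩ := hf₀surj v
      obtain ⟨g, rfl⟩ := hsurj u
      exact ⟨⟨g, hu⟩, rfl⟩
    · ext w
      rw [MonoidHom.mem_ker, MonoidHom.comp_apply, map_eq_one_iff _ hf₀inj, mem_subgroupOf]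
      constructor
      · exact fun h => hker.1 (congrArg Subtype.val h)
      · exact fun h => Subtype.ext (hker.2 h)
  -- the elementary group of order eight
  · have hzC : ∀ c ∈ C, z * c = c * z := fun c hc => mem_centralizer_iff.1 hc z hzP
    have hPC : ∀ {w : H}, w ∈ P → w ∈ C → w = 1 ∨ w = z := fun {w} hwP hwC => by
      rcases hzcen ⟨w, hwP⟩ (fun v => Subtype.ext (mem_centralizer_iff.1 hwC v v.2)) with h | h
      · exact Or.inl (congrArg Subtype.val h)
      · exact Or.inr (congrArg Subtype.val h)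
    have hsq : ∀ {w : H}, w ∈ C → π w * π w = 1 → w * w = 1 ∨ w * w = z := fun {w} hw h1 =>
      hPC (hker.1 (by rw [map_mul, h1])) (mul_mem hw hw)
    have hzconj : ∀ g : H, g * z * g⁻¹ = z := fun g => by
      have h1 : (⟨g * z * g⁻¹, (inferInstance : P.Normal).conj_mem z hzP g⟩ : P) *
          ⟨g * z * g⁻¹, (inferInstance : P.Normal).conj_mem z hzP g⟩ = 1 := Subtype.ext
        (show g * z * g⁻¹ * (g * z * g⁻¹) = 1 by
          rw [show g * z * g⁻¹ * (g * z * g⁻¹) = g * (z * z) * g⁻¹ by group, hzz', mul_one, mul_inv_cancel])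
      rcases hzu _ h1 with h | h
      · exact absurd (mul_left_cancel (a := g) (by
          rw [mul_one]; exact mul_inv_eq_one.1 (congrArg Subtype.val h) : g * z = g * 1)) hz1'
      · exact congrArg Subtype.val h
    have hsame : ∀ {u v : H}, u ∈ C → v ∈ C → orderOf (π u) = 2 → orderOf (π v) = 2 → u * u = v * v := by
      intro u v hu hv hu2 hv2
      obtain ⟨g, hg⟩ := isConj_iff.1 (CfsgLib.TwoGroups.SE.isConj_involutions hSE hu2 hv2)
      obtain ⟨g, rfl⟩ := hsurj g
      have hgu : g * u * g⁻¹ ∈ C := hCn.conj_mem u hu g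
      have hw : (g * u * g⁻¹)⁻¹ * v ∈ P := hker.1 (by
        rw [map_mul, map_inv, map_mul, map_mul, map_inv, hg, inv_mul_cancel])
      have hwC : (g * u * g⁻¹)⁻¹ * v ∈ C := mul_mem (inv_mem hgu) hv
      have huu : g * u * g⁻¹ * (g * u * g⁻¹) = u * u := by
        have h1 : u * u = 1 ∨ u * u = z := hsq hu (involution_sq hu2)
        rw [show g * u * g⁻¹ * (g * u * g⁻¹) = g * (u * u) * g⁻¹ by group]
        rcases h1 with h | h <;> rw [h]
        · rw [mul_one, mul_inv_cancel]
        · exact hzconj g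
      rcases hPC hw hwC with h | h
      · rw [← huu, ← inv_mul_eq_one.1 h]
      · have hv' : v = g * u * g⁻¹ * z := by rw [← h, mul_inv_cancel_left]
        rw [hv', mul_assoc _ z, ← mul_assoc z, hzC _ hgu, mul_assoc _ z z, hzz', mul_one, huu]
    obtain ⟨a, haC, hπa⟩ := hinvol hs2
    obtain ⟨b, hbC, hπb⟩ := hinvol ht2
    have hst2 : orderOf (s * t) = 2 := orderOf_eq_two_of
      (fun e => hst (by rw [eq_inv_of_mul_eq_one_left e, involution_inv ht2]))
      (by rw [show s * t * (s * t) = s * (t * s) * t by group, ← hcomm,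
        show s * (s * t) * t = (s * s) * (t * t) by group, involution_sq hs2, involution_sq ht2, one_mul])
    have e1 : b * b = a * a := hsame hbC haC (hπb ▸ ht2) (hπa ▸ hs2)
    have e2 : a * b * (a * b) = a * a :=
      hsame (mul_mem haC hbC) haC (by rw [map_mul, hπa, hπb]; exact hst2) (hπa ▸ hs2)
    have hcx : ∀ {c p : H}, c ∈ C → p ∈ P → p * c = c * p := fun hc hp => mem_centralizer_iff.1 hc _ hp
    obtain ⟨a', b', x', y', hx', hy', ha', hb', hsa, hsb, hsab⟩ : ∃ a' b' x' y' : H, x' ∈ P ∧ y' ∈ P ∧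
        a' = a * x' ∧ b' = b * y' ∧ a' * a' = 1 ∧ b' * b' = 1 ∧ a' * b' * (a' * b') = 1 := by
      rcases hsq haC (by rw [hπa, involution_sq hs2]) with h | h
      · exact ⟨a, b, 1, 1, one_mem _, one_mem _, (mul_one a).symm, (mul_one b).symm, h, e1.trans h, e2.trans h⟩
      · refine ⟨a * x, b * y, x, y, hxP, hyP, rfl, rfl, ?_, ?_, ?_⟩
        · rw [show a * x * (a * x) = a * (x * a) * x by group, hcx haC hxP,
            show a * (a * x) * x = (a * a) * (x * x) by group, h, hxx', hzz']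
        · rw [show b * y * (b * y) = b * (y * b) * y by group, hcx hbC hyP,
            show b * (b * y) * y = (b * b) * (y * y) by group, e1, h, hyy', hzz']
        · have h1 : a * x * (b * y) = a * b * (x * y) := by
            rw [show a * x * (b * y) = a * (x * b) * y by group, hcx hbC hxP]; group
          rw [h1, show a * b * (x * y) * (a * b * (x * y)) = a * b * ((x * y) * (a * b)) * (x * y) by group,
            hcx (mul_mem haC hbC) (mul_mem hxP hyP),
            show a * b * (a * b * (x * y)) * (x * y) = (a * b * (a * b)) * ((x * y) * (x * y)) by group,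
            e2, h, hxy', hzz']
    have hπa' : π a' = s := by rw [ha', map_mul, hker.2 hx', mul_one, hπa]
    have hπb' : π b' = t := by rw [hb', map_mul, hker.2 hy', mul_one, hπb]
    have hzmem : z ∈ P := hzP
    have hab : a' * b' = b' * a' := by
      calc a' * b' = (a' * b')⁻¹ := (inv_eq_of_mul_eq_one_right hsab).symm
        _ = b'⁻¹ * a'⁻¹ := mul_inv_rev _ _
        _ = b' * a' := by rw [inv_eq_of_mul_eq_one_right hsa, inv_eq_of_mul_eq_one_right hsb]
    have hza : z * a' = a' * z := by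
      have hxz : z * x' = x' * z := by
        have := hzconj x'
        exact (mul_inv_eq_iff_eq_mul.1 this).symm
      rw [ha', ← mul_assoc, hzC a haC, mul_assoc, hxz, mul_assoc]
    have hzb : z * b' = b' * z := by
      have hyz : z * y' = y' * z := (mul_inv_eq_iff_eq_mul.1 (hzconj y')).symm
      rw [hb', ← mul_assoc, hzC b hbC, mul_assoc, hyz, mul_assoc]
    refine ⟨S₀, z, a', b', hPS S₀ hzP, hmemS S₀ a' ?_, hmemS S₀ b' ?_, hzz', hsa, hsb, hza, hzb, hab, hz1',
      ?_, ?_, ?_⟩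
    · rw [hπa']; rw [hS', Sylow.coe_mapSurjective] at hsS; exact hsS
    · rw [hπb']; rw [hS', Sylow.coe_mapSurjective] at htS; exact htS
    · intro e; rw [e, map_one] at hπa'; exact involution_ne_one hs2 hπa'.symm
    · intro e; rw [e, hker.2 hzP] at hπa'; exact involution_ne_one hs2 hπa'.symm
    · intro hb
      have h1 : π b' ∈ zpowers s := by
        refine ((closure_le _).2 ?_ : closure ({z, a'} : Set H) ≤ (zpowers s).comap π) hb
        rintro u (rfl | rfl)
        · rw [SetLike.mem_coe, mem_comap, hker.2 hzP]; exact one_mem _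
        · rw [SetLike.mem_coe, mem_comap, hπa']; exact mem_zpowers s
      rw [hπb'] at h1
      obtain ⟨i, hi⟩ := mem_zpowers_iff.1 h1
      rcases Int.even_or_odd' i with ⟨j, rfl | rfl⟩
      · rw [_root_.zpow_mul, zpow_two, involution_sq hs2, one_zpow] at hi
        exact involution_ne_one ht2 hi.symm
      · rw [zpow_add_one, _root_.zpow_mul, zpow_two, involution_sq hs2, one_zpow, one_mul] at hi
        exact hst hi

end CfsgLib.RankOneInter.Final
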