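import Cfsg.Agent.Lib.Invol.RankOneInter.Final.TI

/-!
Owner: helper18. The final assembly of S3310.

* `ExistsCentral`: the interface to Part A.
* `lift_ti`: the reduction modulo the odd core in case (a).
* `main`: the statement of S3310 from Theorem B and Part A.
-/

set_option autoImplicit false
set_option linter.style.haveILetI false
set_option linter.unusedSectionVars false

namespace CfsgLib.RankOneInter.Final

open Subgroup
open CfsgLib.OddLocal.FTFinal (odd_order_solvable)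

universe u

/-- The conclusion of Part A. -/
def ExistsCentral : Prop :=
  ∀ (G : Type u) [Group G] [Finite G], SmallMeet G → Cfsg.oddCore G = ⊥ →
    (∃ S T : Sylow 2 G, S ≠ T ∧ ¬ IsCyclic ↥((S : Subgroup G) ⊓ (T : Subgroup G))) →
    (∀ (S : Sylow 2 G) (n : ℕ), IsEmpty (↥(S : Subgroup G) ≃* QuaternionGroup (2 ^ (n + 1)))) →
    ∃ z : G, orderOf z = 2 ∧ ∀ g : G, g * z = z * g

/-- The conclusion (a) of S3310. -/
def ShapeA (G : Type u) [Group G] : Prop :=
  ∃ (G₁ : Subgroup G) (_ : G₁.Normal) (_ : ((Cfsg.pCore 2 G ⊔ Cfsg.oddCore G).subgroupOf G₁).Normal),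
    Odd G₁.index ∧ Cfsg.pCore 2 G ⊔ Cfsg.oddCore G ≤ G₁ ∧
    (∃ n : ℕ, Nonempty (↥(Cfsg.pCore 2 G) ≃* QuaternionGroup (2 ^ (n + 1)))) ∧
    ((∃ (n : ℕ) (F : Type) (_ : Field F) (_ : Fintype F), 2 ≤ n ∧ Fintype.card F = 2 ^ n ∧
        Nonempty (↥G₁ ⧸ (Cfsg.pCore 2 G ⊔ Cfsg.oddCore G).subgroupOf G₁ ≃*
          Matrix.ProjectiveSpecialLinearGroup (Fin 2) F)) ∨
     (∃ (m : ℕ) (F : Type) (_ : Field F) (_ : Fintype F), 1 ≤ m ∧ Fintype.card F = 2 ^ (2 * m + 1) ∧
        Nonempty (↥G₁ ⧸ (Cfsg.pCore 2 G ⊔ Cfsg.oddCore G).subgroupOf G₁ ≃* ↥(Cfsg.Lie.Sz F (2 ^ (m + 1))))) ∨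
     (∃ (n : ℕ) (F : Type) (_ : Field F) (_ : Fintype F), 2 ≤ n ∧ Fintype.card F = 4 ^ n ∧
        Nonempty (↥G₁ ⧸ (Cfsg.pCore 2 G ⊔ Cfsg.oddCore G).subgroupOf G₁ ≃* Cfsg.PSU 3 F (2 ^ n))))

/-- Case (a) lifts through the odd core. -/
theorem lift_ti {G : Type u} [Group G] [Finite G] (hG : SmallMeet G) (h : TIShape (G ⧸ Cfsg.oddCore G)) :
    ShapeA G := by
  haveI := Fact.mk Nat.prime_two
  haveI := CfsgLib.HallGen.pCore_normal' (G := G) 2
  haveI := CfsgLib.HallGen.pCore_normal' (G := G ⧸ Cfsg.oddCore G) 2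
  obtain ⟨⟨k, ⟨eP⟩⟩, ⟨G₁, hG₁n, hG₁odd, hG₁P, L, iL, hfam, f, hfsurj, hfker⟩,
    S', z, a, b, hz, ha, hb, hzz, haa, hbb, hza, hzb, hab, hz1, ha1, haz, hbcl⟩ := h
  set O := Cfsg.oddCore G with hOdef
  set π := QuotientGroup.mk' O with hπ
  have hsurj : Function.Surjective π := QuotientGroup.mk'_surjective O
  have hOodd : Odd (Nat.card O) := CfsgLib.ZStar.odd_card_oddCore G
  set P := Cfsg.pCore 2 (G ⧸ O) with hP
  obtain ⟨S, rfl⟩ := Sylow.mapSurjective_surjective hsurj 2 S'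
  rw [Sylow.coe_mapSurjective] at hz ha hb
  have hinj : ∀ {T : Sylow 2 G} {v : G}, v ∈ (T : Subgroup G) → v ∈ O → v = 1 := fun {T v} hv hv1 => by
    obtain ⟨i, hi⟩ := IsPGroup.iff_orderOf.1 T.isPGroup' ⟨v, hv⟩
    rw [Subgroup.orderOf_mk] at hi
    exact orderOf_eq_one_iff.1 (Nat.eq_one_of_dvd_coprimes ((Nat.coprime_two_left.2 hOodd).pow_left i)
      (dvd_of_eq hi) (Subgroup.orderOf_dvd_natCard O hv1))
  have hinjS : ∀ {v w : G}, v ∈ (S : Subgroup G) → w ∈ (S : Subgroup G) → π v = π w → v = w := fun {v w} hv hw e =>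
    inv_mul_eq_one.1 (hinj (mul_mem (inv_mem hv) hw) ((QuotientGroup.eq_one_iff _).1
      (show π (v⁻¹ * w) = 1 by rw [map_mul, map_inv, e, inv_mul_cancel])))
  -- the elementary group of order eight
  obtain ⟨z', hz'S, rfl⟩ := hz
  obtain ⟨a', ha'S, rfl⟩ := ha
  obtain ⟨b', hb'S, rfl⟩ := hb
  have hsq : ∀ {v : G}, v ∈ (S : Subgroup G) → π v * π v = 1 → v * v = 1 := fun {v} hv e =>
    hinjS (mul_mem hv hv) (one_mem _) (by rw [map_mul, e, map_one])
  have hzz' := hsq hz'S hzz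
  have haa' := hsq ha'S haa
  have hbb' := hsq hb'S hbb
  have hza' : z' * a' = a' * z' := hinjS (mul_mem hz'S ha'S) (mul_mem ha'S hz'S) (by rw [map_mul, map_mul, hza])
  have hzb' : z' * b' = b' * z' := hinjS (mul_mem hz'S hb'S) (mul_mem hb'S hz'S) (by rw [map_mul, map_mul, hzb])
  have hab' : a' * b' = b' * a' := hinjS (mul_mem ha'S hb'S) (mul_mem hb'S ha'S) (by rw [map_mul, map_mul, hab])
  set E := closure ({z', a', b'} : Set G) with hE
  haveI hEc : IsMulCommutative E := Subgroup.isMulCommutative_closure (by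
    rintro u (rfl | rfl | rfl) v (rfl | rfl | rfl)
    exacts [rfl, hza', hzb', hza'.symm, rfl, hab', hzb'.symm, hab'.symm, rfl])
  have hEel : Cfsg.IsElementaryAbelian 2 E := by
    refine ⟨hEc, fun u hu => ?_⟩
    have key : ∀ w : E, w ^ 2 = 1 := by
      rintro ⟨w, hw⟩
      induction hw using Subgroup.closure_induction with
      | mem x hx =>
        refine Subtype.ext ?_
        show x ^ 2 = 1
        rw [pow_two]
        rcases hx with rfl | rfl | rfl <;> assumption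
      | one => exact Subtype.ext (one_pow 2)
      | mul x y hx hy h1 h2 =>
        have : (⟨x * y, mul_mem hx hy⟩ : E) = ⟨x, hx⟩ * ⟨y, hy⟩ := rfl
        rw [this, (Commute.mul_pow (IsMulCommutative.is_comm.comm _ _) 2), h1, h2, one_mul]
      | inv x hx h1 =>
        have : (⟨x⁻¹, inv_mem hx⟩ : E) = (⟨x, hx⟩ : E)⁻¹ := rfl
        rw [this, inv_pow, h1, inv_one]
    exact congrArg Subtype.val (key ⟨u, hu⟩)
  have hE8 : 8 ≤ Nat.card E := by
    set E₄ := closure ({z', a'} : Set G) with hE4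
    have hle : E₄ ≤ E := closure_mono (by intro u hu; rcases hu with rfl | rfl <;> simp)
    have h4 : Nat.card E₄ = 4 := CfsgLib.TwoFusion.DihedralProduct.card_closure_pair
      (orderOf_eq_prime (by rw [pow_two, hzz']) (fun e => hz1 (by rw [e, map_one])))
      (orderOf_eq_prime (by rw [pow_two, haa']) (fun e => ha1 (by rw [e, map_one])))
      hza' (fun e => haz (by rw [e]))
    have hb4 : b' ∉ E₄ := fun h => hbcl (by
      have h1 := mem_map_of_mem π h
      rwa [hE4, MonoidHom.map_closure, Set.image_pair] at h1)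
    have hdvd := card_dvd_of_le hle
    rw [h4] at hdvd
    have hne : Nat.card E ≠ 4 := fun e => hb4 (by
      rw [eq_of_le_of_card_ge hle (by rw [h4, e])]
      exact subset_closure (by simp))
    have hpos : 0 < Nat.card E := Nat.card_pos
    omega
  have hES : E ≤ (S : Subgroup G) := (closure_le _).2 (by rintro u (rfl | rfl | rfl) <;> assumption)
  -- every Sylow subgroup centralises the odd core
  have hcomm : ∀ {T : Sylow 2 G} {r n : G}, r ∈ (T : Subgroup G) → n ∈ O → r * n = n * r := by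
    intro T r n hr hn
    obtain ⟨g, rfl⟩ := MulAction.exists_smul_eq G S T
    rw [Sylow.coe_subgroup_smul, Subgroup.mem_pointwise_smul_iff_inv_smul_mem] at hr
    simp only [MulAut.smul_def, map_inv, MulAut.conj_inv_apply] at hr
    have h1 := hG.commute_odd hEel hE8 hES hOodd le_rfl hES (normalizer_eq_top (H := O) ▸ le_top)
      _ hr (g⁻¹ * n * g) (by simpa using (inferInstance : O.Normal).conj_mem n hn g⁻¹)
    calc r * n = g * (g⁻¹ * r * g * (g⁻¹ * n * g)) * g⁻¹ := by group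
      _ = g * (g⁻¹ * n * g * (g⁻¹ * r * g)) * g⁻¹ := by rw [h1]
      _ = n * r := by group
  -- the part over the 2-core
  set Y := P.comap π with hY
  set R := (S : Subgroup G) ⊓ Y with hR
  have hPS : ∀ T : Sylow 2 G, P ≤ (T : Subgroup G).map π := fun T => by
    have := CfsgLib.HallGen.pCore_le_sylow (T.mapSurjective hsurj)
    rwa [Sylow.coe_mapSurjective] at this
  have hTY : ∀ T : Sylow 2 G, (T : Subgroup G) ⊓ Y ≤ R := by
    rintro T w ⟨hwT, hwY⟩
    obtain ⟨r, hr, hre⟩ := hPS S (mem_comap.1 hwY)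
    have ho : r⁻¹ * w ∈ O := (QuotientGroup.eq_one_iff _).1
      (show π (r⁻¹ * w) = 1 by rw [map_mul, map_inv, hre, inv_mul_cancel])
    -- commuting 2-elements differing by an odd element
    have hc : w * r = r * w := by
      have h1 : r * (r⁻¹ * w) = r⁻¹ * w * r := hcomm hr ho
      rw [mul_inv_cancel_left] at h1
      calc w * r = r * (r⁻¹ * w * r) := by group
        _ = r * w := by rw [← h1]
    have hw1 : r⁻¹ * w = 1 := by
      obtain ⟨i, hi⟩ := T.isPGroup' ⟨w, hwT⟩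
      obtain ⟨j, hj⟩ := S.isPGroup' ⟨r, hr⟩
      have hi' : w ^ 2 ^ i = 1 := congrArg Subtype.val hi
      have hj' : r ^ 2 ^ j = 1 := congrArg Subtype.val hj
      have h2 : (r⁻¹ * w) ^ 2 ^ (i + j) = 1 := by
        rw [(Commute.inv_left (show Commute r w from hc.symm)).mul_pow, inv_pow, pow_add, pow_mul w, hi', one_pow,
          mul_comm (2 ^ i), pow_mul r, hj', one_pow, inv_one, one_mul]
      exact orderOf_eq_one_iff.1 (Nat.eq_one_of_dvd_coprimes ((Nat.coprime_two_left.2 hOodd).pow_left (i + j))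
        (orderOf_dvd_of_pow_eq_one h2) (Subgroup.orderOf_dvd_natCard O ho))
    rw [← inv_mul_eq_one.1 hw1]
    exact ⟨hr, show π r ∈ P from hre ▸ mem_comap.1 hwY⟩
  have hRn : R.Normal := ⟨fun r hr g => hTY (g • S) ⟨by
      show g * r * g⁻¹ ∈ ((g • S : Sylow 2 G) : Subgroup G)
      rw [Sylow.coe_subgroup_smul, Subgroup.mem_pointwise_smul_iff_inv_smul_mem]
      simp only [MulAut.smul_def, map_inv, MulAut.conj_inv_apply]
      rw [show g⁻¹ * (g * r * g⁻¹) * g = r by group]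
      exact hr.1,
    (inferInstance : Y.Normal).conj_mem r hr.2 g⟩⟩
  have hcoreY : Cfsg.pCore 2 G ≤ Y := by
    refine map_le_iff_le_comap.1 (le_sSup ⟨(inferInstance : (Cfsg.pCore 2 G).Normal).map π hsurj, ?_⟩)
    exact (CfsgLib.HallGen.isPGroup_pCore (G := G) 2).map π
  have hcore : Cfsg.pCore 2 G = R := le_antisymm
    (fun w hw => hTY S ⟨CfsgLib.HallGen.pCore_le_sylow S hw, hcoreY hw⟩)
    (le_sSup ⟨hRn, S.isPGroup'.to_le inf_le_left⟩)
  have hsup : Cfsg.pCore 2 G ⊔ O = Y := by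
    refine le_antisymm (sup_le hcoreY fun o ho => ?_) fun w hw => ?_
    · rw [hY, mem_comap, show π o = 1 from (QuotientGroup.eq_one_iff o).2 ho]; exact one_mem _
    · obtain ⟨r, hr, hre⟩ := hPS S (mem_comap.1 hw)
      have hrY : r ∈ Y := by rw [hY, mem_comap, hre]; exact mem_comap.1 hw
      have ho : r⁻¹ * w ∈ O := (QuotientGroup.eq_one_iff _).1
        (show π (r⁻¹ * w) = 1 by rw [map_mul, map_inv, hre, inv_mul_cancel])
      have := mul_mem (mem_sup_left (T := O) (hcore ▸ (⟨hr, hrY⟩ : r ∈ R) : r ∈ Cfsg.pCore 2 G))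
        (mem_sup_right (S := Cfsg.pCore 2 G) ho)
      rwa [mul_inv_cancel_left] at this
  -- the quaternion core
  let φ : ↥R →* ↥P := (π.comp R.subtype).codRestrict P fun w => w.2.2
  have hφ : Function.Bijective φ := by
    refine ⟨fun v w e => Subtype.ext (hinjS v.2.1 w.2.1 (congrArg Subtype.val e)), fun w => ?_⟩
    obtain ⟨r, hr, hre⟩ := hPS S w.2
    exact ⟨⟨r, hr, show π r ∈ P from hre ▸ w.2⟩, Subtype.ext hre⟩
  haveI hG₁' : (G₁.comap π).Normal := hG₁n.comap π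
  haveI hYn : Y.Normal := inferInstance
  haveI : (Cfsg.pCore 2 G ⊔ O).Normal := hsup ▸ hYn
  refine ⟨G₁.comap π, hG₁', Subgroup.normal_subgroupOf, ?_, ?_,
    ⟨k, ⟨((MulEquiv.subgroupCongr hcore).trans (MulEquiv.ofBijective φ hφ)).trans eP⟩⟩, ?_⟩
  · rw [index_comap_of_surjective G₁ hsurj]; exact hG₁odd
  · rw [hsup]; exact comap_mono hG₁P
  -- the quotient
  let g : ↥(G₁.comap π) →* L := f.comp ((π.comp (G₁.comap π).subtype).codRestrict G₁ fun w => w.2)
  have hg : Function.Surjective g := fun l => by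
    obtain ⟨⟨u, hu⟩, rfl⟩ := hfsurj l
    obtain ⟨w, rfl⟩ := hsurj u
    exact ⟨⟨w, hu⟩, rfl⟩
  have hgk : g.ker = (Cfsg.pCore 2 G ⊔ O).subgroupOf (G₁.comap π) := by
    ext w
    rw [MonoidHom.mem_ker, MonoidHom.comp_apply, ← MonoidHom.mem_ker, hfker, mem_subgroupOf, mem_subgroupOf, hsup]
    exact Iff.rfl
  have e : ↥(G₁.comap π) ⧸ (Cfsg.pCore 2 G ⊔ O).subgroupOf (G₁.comap π) ≃* L :=
    (QuotientGroup.quotientMulEquivOfEq hgk.symm).trans (QuotientGroup.quotientKerEquivOfSurjective g hg)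
  rcases names_of_family hfam with ⟨n, F, iF, iFt, h1, h2, ⟨e'⟩⟩ | ⟨m, F, iF, iFt, h1, h2, ⟨e'⟩⟩ |
    ⟨n, F, iF, iFt, h1, h2, ⟨e'⟩⟩
  · exact Or.inl ⟨n, F, iF, iFt, h1, h2, ⟨e.trans e'⟩⟩
  · exact Or.inr (Or.inl ⟨m, F, iF, iFt, h1, h2, ⟨e.trans e'⟩⟩)
  · exact Or.inr (Or.inr ⟨n, F, iF, iFt, h1, h2, ⟨e.trans e'⟩⟩)

/-- **The statement of S3310** from Theorem B and Part A. -/
theorem main (hTB : TheoremB.{u}) (hA : ExistsCentral.{u}) {G : Type u} [Group G] [Finite G]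
    (hns : ¬ Group.IsSolvable G)
    (hI : ∀ S T : Sylow 2 G, S ≠ T → Cfsg.PRankLE 2 1 ↥((S : Subgroup G) ⊓ (T : Subgroup G)))
    (hnC : ∃ S T : Sylow 2 (G ⧸ Cfsg.oddCore G), S ≠ T ∧
      ¬ IsCyclic ↥((S : Subgroup (G ⧸ Cfsg.oddCore G)) ⊓ (T : Subgroup (G ⧸ Cfsg.oddCore G))))
    (hnQ : ∀ S : Sylow 2 G, ∀ n : ℕ, IsEmpty (↥(S : Subgroup G) ≃* QuaternionGroup (2 ^ (n + 1)))) :
    ShapeA G ∨
    (∃ (G₁ : Subgroup G) (_ : G₁.Normal) (_ : ((Cfsg.oddCore G).subgroupOf G₁).Normal),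
      (Odd G₁.index ∨ ∃ k : ℕ, Odd k ∧ G₁.index = 2 * k) ∧ Cfsg.oddCore G ≤ G₁ ∧
      ∃ (Z : Subgroup (Matrix.SpecialLinearGroup (Fin 2) (ZMod 5) × Matrix.SpecialLinearGroup (Fin 2) (ZMod 5)))
        (_ : Z.Normal),
        Z = Subgroup.zpowers ((-1 : Matrix.SpecialLinearGroup (Fin 2) (ZMod 5)),
          (-1 : Matrix.SpecialLinearGroup (Fin 2) (ZMod 5))) ∧
        Nonempty (↥G₁ ⧸ (Cfsg.oddCore G).subgroupOf G₁ ≃*
          (Matrix.SpecialLinearGroup (Fin 2) (ZMod 5) × Matrix.SpecialLinearGroup (Fin 2) (ZMod 5)) ⧸ Z)) := by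
  haveI := Fact.mk Nat.prime_two
  have hG := smallMeet_of_prank hI
  have hOodd : Odd (Nat.card (Cfsg.oddCore G)) := CfsgLib.ZStar.odd_card_oddCore G
  set O := Cfsg.oddCore G with hOdef
  set π := QuotientGroup.mk' O with hπ
  have hsurj : Function.Surjective π := QuotientGroup.mk'_surjective O
  have hG' : SmallMeet (G ⧸ O) := hG.quotient O hOodd
  have hO' : Cfsg.oddCore (G ⧸ O) = ⊥ := CfsgLib.USylow.oddCore_quot
  have hns' : ¬ Group.IsSolvable (G ⧸ O) := fun h =>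
    hns ((Group.isSolvable_iff_subgroup_quotient O).2 ⟨odd_order_solvable hOodd, h⟩)
  have hnQ' : ∀ (S : Sylow 2 (G ⧸ O)) (n : ℕ),
      IsEmpty (↥(S : Subgroup (G ⧸ O)) ≃* QuaternionGroup (2 ^ (n + 1))) := by
    intro S' n
    refine ⟨fun e => ?_⟩
    obtain ⟨S, rfl⟩ := Sylow.mapSurjective_surjective hsurj 2 S'
    refine (hnQ S n).false (((MulEquiv.ofBijective (π.subgroupMap (S : Subgroup G))
      ⟨?_, MonoidHom.subgroupMap_surjective π _⟩).trans
        (MulEquiv.subgroupCongr (Sylow.coe_mapSurjective hsurj S).symm)).trans e)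
    rw [injective_iff_map_eq_one]
    intro v hv
    have h1 : (v : G) ∈ O := (QuotientGroup.eq_one_iff _).1 (congrArg Subtype.val hv)
    obtain ⟨i, hi⟩ := IsPGroup.iff_orderOf.1 S.isPGroup' v
    refine orderOf_eq_one_iff.1 (Nat.eq_one_of_dvd_coprimes ((Nat.coprime_two_left.2 hOodd).pow_left i)
      (dvd_of_eq hi) ?_)
    rw [← Subgroup.orderOf_coe]
    exact Subgroup.orderOf_dvd_natCard O h1
  obtain ⟨z, hz2, hzc⟩ := hA (G ⧸ O) hG' hO' hnC hnQ'
  obtain ⟨S₀, T₀, hne, hnc⟩ := hnC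
  -- a second involution
  have hx : ∃ x : G ⧸ O, orderOf x = 2 ∧ x ≠ z := by
    by_contra hno
    push Not at hno
    obtain ⟨n, ⟨e⟩⟩ := quaternion_of_unique S₀.isPGroup' (fun h => hnc (@Subgroup.isCyclic_of_le _ _ _ _ inf_le_left h))
      (fun x y hx hy => Subtype.ext ((hno x (by rw [Subgroup.orderOf_coe]; exact hx)).trans
        (hno y (by rw [Subgroup.orderOf_coe]; exact hy)).symm))
    exact (hnQ' S₀ n).false e
  rcases hTB (G ⧸ O) hG' hO' z hz2 hzc hx with hti | ⟨G₁, hG₁, hidx, Z, hZn, hZ, ⟨e⟩⟩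
  · exact Or.inl (lift_ti hG (ti_case hG' hO' hns' hti hne hnc))
  · refine Or.inr ⟨G₁.comap π, hG₁.comap π, Subgroup.normal_subgroupOf, ?_, ?_, Z, hZn, hZ, ?_⟩
    · rwa [index_comap_of_surjective G₁ hsurj]
    · intro o ho
      rw [mem_comap, show π o = 1 from (QuotientGroup.eq_one_iff o).2 ho]; exact one_mem _
    · let g : ↥(G₁.comap π) →* ↥G₁ := (π.comp (G₁.comap π).subtype).codRestrict G₁ fun w => w.2
      have hg : Function.Surjective g := fun u => by
        obtain ⟨w, hw⟩ := hsurj u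
        exact ⟨⟨w, by rw [mem_comap, hw]; exact u.2⟩, Subtype.ext hw⟩
      have hgk : g.ker = O.subgroupOf (G₁.comap π) := by
        ext w
        rw [MonoidHom.mem_ker, mem_subgroupOf, ← QuotientGroup.eq_one_iff]
        exact Subtype.ext_iff
      exact ⟨((QuotientGroup.quotientMulEquivOfEq hgk.symm).trans
        (QuotientGroup.quotientKerEquivOfSurjective g hg)).trans e⟩

end CfsgLib.RankOneInter.Final
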