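import Cfsg.Agent.Lib.Invol.RankOneInter.Central.Assemble
import Cfsg.Agent.Lib.Invol.RankOneInter.Central.Reduce
import Cfsg.Agent.Lib.Invol.RankOneInter.PartA.Central
import Cfsg.Agent.Lib.Invol.RankOneInter.Final.Main

/-!
Owner: helper5. Theorem B and Part A of S3310, given the case of an element of the second kind.
-/

set_option autoImplicit false

namespace CfsgLib.RankOneInter.Final

universe u

theorem theoremB_of_alpha (hA : AlphaCase.{u}) : TheoremB.{u} := theoremB_of_central (centralCase_of_alpha hA)

theorem existsCentral_of_alpha (hA : AlphaCase.{u}) : ExistsCentral.{u} :=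
  fun G _ _ hG hO hnC hnQ => exists_central (theoremB_of_alpha hA) hG hO hnC hnQ

end CfsgLib.RankOneInter.Final
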